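import Groth.Agent.GIT.K689.St719
import Groth.Agent.GIT.K689.Have
import Groth.Agent.S14713
import Groth.Agent.CalgB.AmpleBase
import Groth.Prelude.Def_GLinSh
import Groth.Prelude.Def_Red
import Groth.Prelude.Def_CohB1

/-!
# Geometric quotients of invariant opens of the stable locus (direction (i) ⟹ (ii) of S14720)

`exists_stableQuot_ample`: the geometric quotient of the stable locus is affine over a base with an ample sheaf.
`exists_quotient`: an invariant open of the stable locus has a quasi-projective geometric quotient.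
-/

set_option autoImplicit false

universe u

open CategoryTheory CategoryTheory.Limits MonoidalCategory CartesianMonoidalCategory MonObj GrpObj AlgebraicGeometry
  TopologicalSpace Topology

namespace K765.Quot720

open K689.LinBunBasic K688.ActRes K689.Ifc K689.LocGeom K689.Quot714 K689.St715 K689.St719

section Red

variable {k : Type u} [Field k] [CharZero k] {G X : Over (Spec (CommRingCat.of k))} [GrpObj G]
  {a : AlgGrp.Action G X} {B : GLinSh.LinBun G a}

/-- the quotient of the stable locus is an open of something of finite type with an ample sheaf -/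
theorem exists_stableQuot_ample (hG : Red.IsReductive G) [LocallyOfFiniteType X.hom] [QuasiCompact X.hom]
    (Us : X.left.Opens) (hUs : (Us : Set X.left) = B.sLocus)
    {aS : AlgGrp.Action G (op X Us)} (haS : aS.act ≫ inc X Us = (G ◁ inc X Us) ≫ a.act) :
    ∃ (Y : Over (Spec (CommRingCat.of k))) (Yt : Y.left.Opens) (φs : op X Us ⟶ op Y Yt),
      GIT.IsUnivGeomQuot aS φs ∧ IsAffineHom φs.left ∧ IsSeparated Y.hom ∧ LocallyOfFiniteType Y.hom ∧
      CompactSpace Y.left ∧ ∃ M : Y.left.Modules, CohB1.IsAmple M := by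
  let U : X.left.Opens := ⟨B.ssLocus, isOpen_ssLocus B⟩
  have hU : (U : Set X.left) = B.ssLocus := rfl
  have hle : Us ≤ U := by
    intro x hx
    have : x ∈ B.sLocus := by rw [← hUs]; exact hx
    obtain ⟨n, s, hn, hs, hxs, O, hO, haff, hcl⟩ := this
    exact ⟨n, s, hn, hs, hxs, O, hO, haff⟩
  obtain ⟨aU, haU⟩ := exists_aU (B := B) U hU
  obtain ⟨Y, φ, h1, h2⟩ := Groth.Agent.S14713.result k G X hG a B U hU aU (inc X U) rfl haU
  have P := props K689.Have.st31 (@Groth.Agent.S14713.result) hG U hU aU (inc X U) rfl haU Y φ h1.1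
  have hj : incLE X hle ≫ inc X U = inc X Us := incLE_inc X hle
  have hact : aS.act ≫ incLE X hle = (G ◁ incLE X hle) ≫ aU.act := by
    rw [← cancel_mono (inc X U), Category.assoc, hj, haS, Category.assoc, haU,
      ← MonoidalCategory.whiskerLeft_comp_assoc, hj]
  have hop : IsOpenImmersion (incLE X hle).left := inferInstanceAs (IsOpenImmersion (X.left.homOfLE hle))
  obtain ⟨Yt, φs, h3, h4, h5⟩ := P.stable K689.Have.st31 K689.Have.st32 K689.Have.st33 hG hact (by
    rw [hj]
    exact (Scheme.Opens.range_ι Us).trans hUs)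
  have hpb : IsPullback (incLE X hle) φs φ (inc Y Yt) := by
    apply isPullback_of_left
    have hφl : φs.left ≫ (inc Y Yt).left = (incLE X hle).left ≫ φ.left := by
      rw [← Over.comp_left, h3, Over.comp_left]
    refine K688.QuotGlue.isPullback_of_opensRange (incLE X hle).left (inc Y Yt).left φ.left φs.left hφl ?_
    have hrg : Set.range (inc Y Yt).left = (Yt : Set Y.left) := Scheme.Opens.range_ι _
    ext x
    have h6 : φ.left x ∈ Set.range (inc Y Yt).left ↔ x ∈ ((φ.left ⁻¹ᵁ Yt : (op X U).left.Opens) : Set (op X U).left) := by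
      rw [hrg]; rfl
    refine h6.trans ?_
    rw [h4]
    rfl
  have := P.aff
  have hcY : CompactSpace Y.left := by
    have hN : IsLocallyNoetherian X.left := LocallyOfFiniteType.isLocallyNoetherian X.hom
    have hc : CompactSpace X.left := (quasiCompact_iff_compactSpace X.hom).1 inferInstance
    have hNo : IsNoetherian X.left := {}
    have : TopologicalSpace.NoetherianSpace X.left := inferInstance
    have hcU : CompactSpace (op X U).left :=
      isCompact_iff_compactSpace.mp (TopologicalSpace.NoetherianSpace.isCompact (U : Set X.left))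
    exact (K686.Basic.isQuotientMap_of_isUnivSubmersive P.subm).surjective.compactSpace φ.left.continuous
  exact ⟨Y, Yt, φs, h5, MorphismProperty.of_isPullback (hpb.map (Over.forget _)) ‹_›, P.sep, P.lft, hcY, P.ample⟩

end Red

/-- (i) ⟹ (ii) of S14720, without the superfluous hypotheses -/
theorem exists_quotient_of_subset (k : Type u) [Field k] [CharZero k]
    (G X : Over (Spec (CommRingCat.of k))) [GrpObj G] (hG : Red.IsReductive G)
    [LocallyOfFiniteType X.hom] [QuasiCompact X.hom]
    (a : AlgGrp.Action G X)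
    (U : X.left.Opens)
    (aU : AlgGrp.Action G (Over.mk (U.ι ≫ X.hom)))
    (jU : Over.mk (U.ι ≫ X.hom) ⟶ X) (hjU : jU.left = U.ι) (haU : aU.act ≫ jU = (G ◁ jU) ≫ a.act)
    (B : GLinSh.LinBun G a) (hB : (U : Set X.left) ⊆ B.sLocus) :
    ∃ (Y : Over (Spec (CommRingCat.of k))) (φ : Over.mk (U.ι ≫ X.hom) ⟶ Y),
        GIT.IsGeomQuot aU φ ∧ IsAffineHom φ.left ∧ LocallyOfFiniteType Y.hom ∧
        ∃ M : Y.left.Modules, CohB1.IsAmple M := by
  let Us : X.left.Opens := ⟨B.sLocus, isOpen_sLocus B⟩
  obtain ⟨aS, haS⟩ := exists_aS (B := B) Us rfl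
  obtain ⟨Y, Yt, φs, h1, h2, h3, h4, h5, M, hM⟩ := exists_stableQuot_ample hG Us rfl haS
  have hle : U ≤ Us := hB
  have hj : incLE X hle ≫ inc X Us = jU := by
    rw [incLE_inc]
    ext1
    exact hjU.symm
  have hact : aU.act ≫ incLE X hle = (G ◁ incLE X hle) ≫ aS.act := by
    rw [← cancel_mono (inc X Us), Category.assoc, hj, haU, Category.assoc, haS,
      ← MonoidalCategory.whiskerLeft_comp_assoc, hj]
  have hop : IsOpenImmersion (incLE X hle).left := inferInstanceAs (IsOpenImmersion (X.left.homOfLE hle))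
  obtain ⟨Q, φP, hpb, hgeom⟩ := exists_restrict_geomQuot h1 (incLE X hle) hact
  have haff : IsAffineHom φP.left := MorphismProperty.of_isPullback (hpb.map (Over.forget _)) h2
  let g : (op (op Y Yt) Q).left ⟶ Y.left := Q.ι ≫ Yt.ι
  have hN : IsLocallyNoetherian Y.left := LocallyOfFiniteType.isLocallyNoetherian Y.hom
  have hNo : IsNoetherian Y.left := {}
  have : TopologicalSpace.NoetherianSpace Y.left := inferInstance
  have hg : IsOpenImmersion g := inferInstanceAs (IsOpenImmersion (Q.ι ≫ Yt.ι))
  have hqc : QuasiCompact g := inferInstance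
  refine ⟨op (op Y Yt) Q, φP, hgeom, haff, ?_, _,
    Groth.Agent.CalgB.AmpleBase.isAmple_pullback_of_isImmersion g hM⟩
  exact inferInstanceAs (LocallyOfFiniteType (Q.ι ≫ Yt.ι ≫ Y.hom))

/-- (i) ⟹ (ii) of S14720 (job 68) -/
theorem exists_quotient (k : Type u) [Field k] [CharZero k]
    (G X : Over (Spec (CommRingCat.of k))) [GrpObj G] (hG : Red.IsReductive G)
    [LocallyOfFiniteType X.hom] [QuasiCompact X.hom] [Smooth X.hom] [IsSeparated X.hom] [ConnectedSpace X.left]
    (a : AlgGrp.Action G X)
    (U : X.left.Opens) (_hinv : a.act.left ⁻¹ᵁ U = (snd G X).left ⁻¹ᵁ U)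
    (aU : AlgGrp.Action G (Over.mk (U.ι ≫ X.hom)))
    (jU : Over.mk (U.ι ≫ X.hom) ⟶ X) (hjU : jU.left = U.ι) (haU : aU.act ≫ jU = (G ◁ jU) ≫ a.act)
    (B : GLinSh.LinBun G a) (hB : (U : Set X.left) ⊆ B.sLocus) :
    ∃ (Y : Over (Spec (CommRingCat.of k))) (φ : Over.mk (U.ι ≫ X.hom) ⟶ Y),
        GIT.IsGeomQuot aU φ ∧ IsAffineHom φ.left ∧ LocallyOfFiniteType Y.hom ∧
        ∃ M : Y.left.Modules, CohB1.IsAmple M :=
  exists_quotient_of_subset k G X hG a U aU jU hjU haU B hB

end K765.Quot720
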